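import Mathlib
import Cfsg.Prelude.Def_KGroupFacts

/-!
# S4908: the order of the kernel of a perfect central extension divides the order of the multiplier (helper206)
-/

set_option autoImplicit false

namespace Cfsg.Agent.H206.S8

open Cfsg

universe u v

/-- `|V|` divides `n`, if the multiplier is cyclic of order `n` -/
theorem mult_dvd {M : Type} [Group M] {n : ℕ} (hn : n ≠ 0) (h : HasCyclicSchurMultiplier M n) {X : Type v} [Group X]
    (e : X ≃* M) {N : Type u} [Group N] [Finite N] (V : Subgroup N) [V.Normal] (hc : V ≤ Subgroup.center N)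
    (hN : commutator N = ⊤) (hX : Nonempty ((N ⧸ V) ≃* X)) : Nat.card V ∣ n := by
  obtain ⟨f⟩ := hX
  let E : Shrink.{0} N ≃* N := Shrink.mulEquiv
  let σ : Shrink.{0} N →* M :=
    (e.toMonoidHom.comp f.toMonoidHom).comp ((QuotientGroup.mk' V).comp E.toMonoidHom)
  have hker : ∀ x : Shrink.{0} N, x ∈ σ.ker ↔ E x ∈ V := by
    intro x
    rw [MonoidHom.mem_ker]
    show e (f (QuotientGroup.mk' V (E x))) = 1 ↔ _
    rw [EmbeddingLike.map_eq_one_iff, EmbeddingLike.map_eq_one_iff]
    exact QuotientGroup.eq_one_iff _
  have hstem : IsStemExtension σ := by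
    refine ⟨?_, ?_, ?_⟩
    · intro m
      obtain ⟨x, hx⟩ := QuotientGroup.mk'_surjective V (f.symm (e.symm m))
      refine ⟨E.symm x, ?_⟩
      show e (f (QuotientGroup.mk' V (E (E.symm x)))) = m
      rw [E.apply_symm_apply, hx, f.apply_symm_apply, e.apply_symm_apply]
    · intro x hx
      rw [Subgroup.mem_center_iff]
      intro y
      apply E.injective
      rw [map_mul, map_mul]
      exact Subgroup.mem_center_iff.1 (hc ((hker x).1 hx)) (E y)
    · have h1 : commutator (Shrink.{0} N) = ⊤ := by
        have h2 : (commutator (Shrink.{0} N)).map E.toMonoidHom = commutator N := by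
          rw [commutator_def, commutator_def, Subgroup.map_commutator, ← MonoidHom.range_eq_map]
          have h3 : E.toMonoidHom.range = ⊤ := MonoidHom.range_eq_top.2 E.surjective
          rw [h3]
        rw [hN] at h2
        rw [eq_top_iff]
        intro x _
        have h3 : E x ∈ (commutator (Shrink.{0} N)).map E.toMonoidHom := by rw [h2]; trivial
        obtain ⟨y, hy, hyx⟩ := h3
        have h4 : y = x := E.injective hyx
        rwa [← h4]
      rw [h1]
      exact le_top
  have hfin : Finite (Shrink.{0} N) := Finite.of_equiv N E.symm.toEquiv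
  obtain ⟨π, hπ⟩ := h.2 (Shrink.{0} N) σ hstem
  have : NeZero n := ⟨hn⟩
  have h1 : Nat.card σ.ker ∣ Nat.card (Multiplicative (ZMod n)) := Subgroup.card_dvd_of_surjective π hπ
  have h2 : Nat.card (Multiplicative (ZMod n)) = n := Nat.card_zmod n
  rw [h2] at h1
  have h3 : Nat.card σ.ker = Nat.card V := Nat.card_congr
    { toFun := fun x => ⟨E x, (hker x).1 x.2⟩
      invFun := fun y => ⟨E.symm y, (hker _).2 (by rw [E.apply_symm_apply]; exact y.2)⟩
      left_inv := fun x => Subtype.ext (E.symm_apply_apply _)
      right_inv := fun y => Subtype.ext (E.apply_symm_apply _) }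
  rwa [h3] at h1

end Cfsg.Agent.H206.S8
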