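import Cfsg.Agent.H206.S8.M22C3
import Cfsg.Agent.H206.S8.MultDvd
import Cfsg.Agent.H109.S8.AutDeg
import Cfsg.Agent.H109.S8.M22C2
import Cfsg.Agent.S2036

/-!
# S4908, M22: the row COVER (helper206, helper109)
-/

set_option autoImplicit false

namespace Cfsg.Agent.H206.S8

open Cfsg Cfsg.Agent.H704.S8

universe u v

/-- **M22, COVER, `r = 3`** -/
theorem m22_cover_three {X : Type v} [Group X] (hX : Cfsg.IsM22 X) {D : Set ℕ} (hD : Deg 2 X D)
    {N : Type u} [Group N] [Finite N] (V : Subgroup N) [V.Normal] (hV : Nat.card V = 3) (hc : V ≤ Subgroup.center N)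
    (hperf : commutator N = ⊤) (he : Nonempty ((N ⧸ V) ≃* X)) :
    ∃ (χ : N → ℂ) (d : ℕ), IsIrrCharacter N χ ∧ (∃ v ∈ V, χ v ≠ χ 1) ∧ χ 1 = d ∧
      ∀ i : ℕ, d * 3 ^ i ∉ D ∧ 2 * (d * 3 ^ i) ∉ D :=
  m22_cover_three_of hX (H109.S8.deg_sub hX hD) V hV hc hperf he

/-- **M22, COVER** (all primes) -/
theorem m22_cover {X : Type v} [Group X] (hX : Cfsg.IsM22 X) {D : Set ℕ} (hD : Deg 2 X D) : Cover.{u} D X := by
  intro N _ _ V _ r hr hV hc hperf he
  have := H109.S8.finite_m22 hX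
  obtain ⟨e⟩ := S1663.result hX
  have h1 := mult_dvd (by norm_num) S2036.result e V hc hperf he
  rw [hV] at h1
  have h2 : r = 2 ∨ r = 3 := by
    have h3 : r ∣ 2 ^ 2 * 3 := by norm_num; exact h1
    rcases (Nat.Prime.dvd_mul hr).1 h3 with h4 | h4
    · exact Or.inl ((Nat.prime_dvd_prime_iff_eq hr Nat.prime_two).1 (hr.dvd_of_dvd_pow h4))
    · exact Or.inr ((Nat.prime_dvd_prime_iff_eq hr Nat.prime_three).1 h4)
  rcases h2 with rfl | rfl
  · exact H109.S8.cover2 hX hD V hV hc hperf he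
  · exact m22_cover_three hX hD V hV hc hperf he

end Cfsg.Agent.H206.S8
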