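import Cfsg.Agent.H382.RIM.Tool
import Cfsg.Agent.H535.RIM.Cert
import Cfsg.Agent.H648.Loc.Value
import Cfsg.Agent.H388.AN.Cen
import Cfsg.Agent.SmallSimple.PrimeFusion
import Cfsg.Agent.LThreeMB.QuoMap

/-!
# S4908: columns of elements of prime order in perfect central extensions (helper206)

`col`: `N` perfect, `V` central of prime order `r`, `x̄ ∈ N ⧸ V` rational of prime order `p ≠ r` with centraliser of
order `m`: for an injective linear character `c` of `V`, the irreducible characters over `c` have degrees `d` divisible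
by `r` and integral values `v ≡ d mod p` at a lift of `x̄` with `∑ v² = m` and `∑ d v = 0`.
-/

set_option autoImplicit false

namespace Cfsg.Agent.H206.S8

open Cfsg Subgroup Cfsg.Agent.H622.Over Cfsg.Agent.H382.RIM Cfsg.Agent.Characters.Core
open scoped ComplexConjugate

universe u v

variable {N : Type u} [Group N] [Finite N]

/-- a central subgroup of prime order has an injective linear character -/
theorem exists_inj {V : Subgroup N} {r : ℕ} (hr : r.Prime) (hV : Nat.card V = r) (hc : V ≤ center N) :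
    ∃ c : V →* ℂˣ, Function.Injective c := by
  have h1 : 1 < Nat.card V := by rw [hV]; exact hr.one_lt
  have hnt : Nontrivial V := Finite.one_lt_card_iff_nontrivial.1 h1
  obtain ⟨v, hv⟩ := exists_ne (1 : V)
  by_contra hcon
  apply hv
  apply Subtype.ext
  refine Cfsg.Agent.H388.AN.eq_one_of_forall fun χ hχ => ?_
  obtain ⟨c, hcc⟩ := exists_hom hc hχ
  have h2 : c.ker ≠ ⊥ := fun h => hcon ⟨c, (MonoidHom.ker_eq_bot_iff c).1 h⟩
  have h3 : c.ker = ⊤ := by
    have : Fact (Nat.card V).Prime := ⟨by rw [hV]; exact hr⟩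
    exact (Subgroup.eq_bot_or_eq_top_of_prime_card c.ker).resolve_left h2
  have h4 : c v = 1 := by
    have : v ∈ c.ker := by rw [h3]; exact mem_top _
    exact this
  have h5 := hcc 1 v
  rw [one_mul, h4, Units.val_one, mul_one] at h5
  exact h5

/-- the lift of a rational element of prime order -/
theorem lift {X : Type v} [Group X] {π : N →* X} (hπ : Function.Surjective π) {r p : ℕ} (hr : r.Prime) (hp : p.Prime)
    (hrp : r ≠ p) (hV : Nat.card π.ker = r) (hc : π.ker ≤ center N) {y : X} (hy : orderOf y = p)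
    (hconj : ∀ i : ℕ, ¬ p ∣ i → IsConj y (y ^ i)) :
    ∃ x : N, π x = y ∧ orderOf x = p ∧ (∀ i : ℕ, ¬ p ∣ i → IsConj x (x ^ i)) ∧
      Nat.card (centralizer ({x} : Set N)) = r * Nat.card (centralizer ({y} : Set X)) := by
  have hV1 : ∀ v ∈ π.ker, v ^ r = 1 := fun v hv => by
    have := pow_card_eq_one' (x := (⟨v, hv⟩ : π.ker))
    rw [hV] at this
    exact congrArg Subtype.val this
  have hcop : r.Coprime p := (Nat.coprime_primes hr hp).2 hrp
  -- elements of order dividing `p` and `r`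
  have key : ∀ (a b : N), a ^ p = 1 → b ^ p = 1 → π a = π b → a = b := by
    intro a b ha hb hab
    have h1 : a⁻¹ * b ∈ π.ker := by
      rw [MonoidHom.mem_ker, map_mul, map_inv, hab, inv_mul_cancel]
    have h2 : b = a * (a⁻¹ * b) := by group
    have h3 : Commute a (a⁻¹ * b) := (mem_center_iff.1 (hc h1) a)
    have h4 : (a⁻¹ * b) ^ p = 1 := by
      have h5 : (a * (a⁻¹ * b)) ^ p = 1 := by rw [← h2]; exact hb
      rwa [h3.mul_pow, ha, one_mul] at h5
    have h6 : a⁻¹ * b = 1 := by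
      have := pow_gcd_eq_one.2 ⟨hV1 _ h1, h4⟩
      rwa [Nat.Coprime.gcd_eq_one hcop, pow_one] at this
    rw [h2, h6, mul_one]
  obtain ⟨x0, hx0⟩ := hπ y
  obtain ⟨k, hk⟩ : ∃ k : ℕ, k * r ≡ 1 [MOD p] := by
    obtain ⟨k, -, hk⟩ := Nat.exists_mul_mod_eq_one_of_coprime hcop hp.one_lt
    exact ⟨k, by rw [mul_comm]; exact (show r * k % p = 1 % p by rw [hk, Nat.mod_eq_of_lt hp.one_lt])⟩
  have hyp : y ^ p = 1 := by rw [← hy]; exact pow_orderOf_eq_one y
  have hx : π (x0 ^ (k * r)) = y := by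
    rw [map_pow, hx0]
    have h0 : y ^ (k * r) = y ^ 1 := pow_eq_pow_iff_modEq.2 (by rw [hy]; exact hk)
    rw [h0, pow_one]
  have hxp : (x0 ^ (k * r)) ^ p = 1 := by
    have h1 : x0 ^ p ∈ π.ker := by rw [MonoidHom.mem_ker, map_pow, hx0, hyp]
    have h2 := hV1 _ h1
    rw [← pow_mul, show k * r * p = (p * r) * k by ring, pow_mul, pow_mul x0 p r, h2, one_pow]
  set x := x0 ^ (k * r) with hxdef
  have hx1 : x ≠ 1 := by
    rintro h
    rw [h, map_one] at hx
    rw [← hx, orderOf_one] at hy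
    exact hp.one_lt.ne hy
  have hord : orderOf x = p := by
    have : Fact p.Prime := ⟨hp⟩
    exact orderOf_eq_prime hxp hx1
  refine ⟨x, hx, hord, fun i hi => ?_, ?_⟩
  · obtain ⟨g, hg⟩ := isConj_iff.1 (hconj i hi)
    obtain ⟨g0, rfl⟩ := hπ g
    refine isConj_iff.2 ⟨g0, key _ _ ?_ ?_ ?_⟩
    · rw [conj_pow, hxp, mul_one, mul_inv_cancel]
    · rw [← pow_mul, mul_comm, pow_mul, hxp, one_pow]
    · rw [map_mul, map_mul, map_inv, hx, hg, map_pow, hx]
  · have h1 : centralizer ({x} : Set N) = (centralizer ({y} : Set X)).comap π := by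
      ext g
      rw [mem_comap, mem_centralizer_singleton_iff, mem_centralizer_singleton_iff]
      constructor
      · intro h
        rw [← hx, ← map_mul, ← map_mul, h]
      · intro h
        have h2 : g * x * g⁻¹ = x := by
          refine key _ _ ?_ hxp ?_
          · rw [conj_pow, hxp, mul_one, mul_inv_cancel]
          · rw [map_mul, map_mul, map_inv, hx, h, mul_assoc, mul_inv_cancel, mul_one]
        exact mul_inv_eq_iff_eq_mul.1 h2
    rw [h1, Cfsg.Agent.LThreeMB.QuoMap.card_comap π hπ, hV]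

/-- the columns over `c` at a rational element of prime order -/
theorem col (hperf : commutator N = ⊤) {V : Subgroup N} {r p m : ℕ} (hr : r.Prime) (hp : p.Prime) (hrp : r ≠ p)
    (hV : Nat.card V = r) (hc : V ≤ center N) {c : V →* ℂˣ} (hci : Function.Injective c)
    {x : N} (hx : orderOf x = p) (hconj : ∀ i : ℕ, ¬ p ∣ i → IsConj x (x ^ i))
    (hm : Nat.card (centralizer ({x} : Set N)) = r * m) [Fintype (IrrCharacter N)] :
    ∃ w : IrrCharacter N → ℤ, (∀ χ ∈ ov V c, r ∣ charDegree (χ : N → ℂ) ∧ (p : ℤ) ∣ (charDegree (χ : N → ℂ) : ℤ) - w χ) ∧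
      ∑ χ ∈ ov V c, w χ ^ 2 = m ∧ ∑ χ ∈ ov V c, w χ * charDegree (χ : N → ℂ) = 0 := by
  classical
  have := Fintype.ofFinite V
  have hval := fun χ : IrrCharacter N => Cfsg.Agent.H648.Loc.exists_value hp hx hconj χ.2
  choose w hw1 hw2 using hval
  have hxp : x ^ p = 1 := by rw [← hx]; exact pow_orderOf_eq_one x
  have hcop : p.Coprime (Nat.card V) := by rw [hV]; exact ((Nat.coprime_primes hr hp).2 hrp).symm
  have hr0 : (r : ℝ) ≠ 0 := by exact_mod_cast hr.ne_zero
  refine ⟨w, fun χ hχ => ⟨?_, hw2 χ⟩, ?_, ?_⟩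
  · have := Cfsg.Agent.H535.RIM.card_dvd_deg hc hperf hci χ.2 (mem_ov.1 hχ)
    rwa [hV] at this
  · have h1 := sum_normSq_over hc c x (fun n hn => eq_one_of_isConj hc hxp hcop hn)
    rw [hV, hm] at h1
    have h2 : (∑ χ ∈ ov V c, ‖(χ : N → ℂ) x‖ ^ 2 : ℝ) = ((∑ χ ∈ ov V c, w χ ^ 2 : ℤ) : ℝ) := by
      push_cast
      refine Finset.sum_congr rfl fun χ _ => ?_
      rw [hw1 χ, Complex.norm_intCast, sq_abs]
    rw [h2] at h1
    push_cast at h1
    have h3 : ((∑ χ ∈ ov V c, w χ ^ 2 : ℤ) : ℝ) = m := by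
      push_cast
      exact mul_left_cancel₀ hr0 h1
    exact_mod_cast h3
  · have h1 := sum_over hc c x 1
    have h2 : ∀ n : V, ¬ IsConj (x * n) 1 := by
      intro n hn
      rw [isConj_one_left] at hn
      have h3 : x = ((n⁻¹ : V) : N) := by
        rw [Subgroup.coe_inv]
        exact eq_inv_of_mul_eq_one_left hn
      have h4 : orderOf x ∣ Nat.card V := by
        rw [h3, Subgroup.orderOf_coe]
        exact orderOf_dvd_natCard _
      rw [hx, hV] at h4
      exact hrp ((Nat.prime_dvd_prime_iff_eq hp hr).1 h4).symm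
    rw [Finset.sum_eq_zero (s := (Finset.univ : Finset V)) (fun n _ => by rw [if_neg (h2 n), mul_zero]), mul_zero] at h1
    have h3 : (∑ χ ∈ ov V c, (χ : N → ℂ) x * conj ((χ : N → ℂ) 1)) =
        ((∑ χ ∈ ov V c, w χ * charDegree (χ : N → ℂ) : ℤ) : ℂ) := by
      push_cast
      refine Finset.sum_congr rfl fun χ _ => ?_
      rw [hw1 χ, Blocks.Knorr.charDegree_eq χ.2]
      simp
    rw [h3] at h1
    exact_mod_cast h1

end Cfsg.Agent.H206.S8
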