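import Cfsg.Agent.H206.S8.C3Tools
import Cfsg.Agent.H704.S8.Defs
import Cfsg.Agent.H417.DegMTwentyTwo

/-!
# S4908, M22: the row COVER for `r = 3` (helper206; argument of helper109)

A threefold cover of `M22` has, over a faithful linear character of the kernel, an irreducible character of degree `d`
with `d 3 ^ i`, `2 d 3 ^ i` not degrees of `M22` or `Aut M22`: one rational element of order `5` with self-centralizing
image.
-/

set_option autoImplicit false

namespace Cfsg.Agent.H206.S8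

open Cfsg Subgroup Cfsg.Agent.H622.Over Cfsg.Agent.H382.RIM Cfsg.Agent.Characters.Core

universe u v

theorem m22_five {X : Type v} [Group X] (hX : Cfsg.IsM22 X) : ∃ y : X, orderOf y = 5 ∧
    Nat.card (centralizer ({y} : Set X)) = 5 ∧ ∀ i : ℕ, ¬ 5 ∣ i → IsConj y (y ^ i) := by
  obtain ⟨hs, hcard⟩ := hX
  have hfin : Finite X := Nat.finite_of_card_ne_zero (by rw [hcard]; norm_num)
  have f11 : Fact (Nat.Prime 11) := ⟨by norm_num⟩
  have f7 : Fact (Nat.Prime 7) := ⟨by norm_num⟩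
  have f5 : Fact (Nat.Prime 5) := ⟨by norm_num⟩
  have h11 : ∀ Q : Sylow 11 X, Subgroup.centralizer (Q : Set X) = (Q : Subgroup X) :=
    fun Q => (Cfsg.Agent.M22.Sylow11.sylow_eleven hcard Q).1
  have h7 : ∀ P : Sylow 7 X, Subgroup.centralizer (P : Set X) = (P : Subgroup X) ∧
      (Subgroup.centralizer (P : Set X)).relIndex (Subgroup.normalizer (P : Set X)) = 3 :=
    fun P => Cfsg.Agent.M22.Sylow7Core.sylow_seven_core hcard h11 P
      (fun _ hK h8 => Cfsg.Agent.M22.SevenThreeEight.false_three_eight hcard h11 P hK h8)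
      (fun _ hK h4 => Cfsg.Agent.M22.SevenSixFour.false_six_four hcard h11 P hK h4)
  obtain ⟨P11⟩ : Nonempty (Sylow 11 X) := inferInstance
  obtain ⟨P7⟩ : Nonempty (Sylow 7 X) := inferInstance
  obtain ⟨P5⟩ : Nonempty (Sylow 5 X) := inferInstance
  have h5 := Cfsg.Agent.M22.SylowFive.sylow_five hcard P11 P7 (h11 P11) (h7 P7).1
      (Cfsg.Agent.M22.Sylow11.sylow_eleven hcard P11).2 (h7 P7).2 P5
  have hP : Nat.card (P5 : Subgroup X) = 5 := by
    rw [P5.card_eq_multiplicity, hcard, show (443520 : ℕ) = 5 * 88704 by norm_num,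
      Nat.factorization_mul (by norm_num) (by norm_num), Finsupp.add_apply,
      Nat.Prime.factorization_self (by norm_num), Nat.factorization_eq_zero_of_not_dvd (by norm_num), Nat.add_zero,
      pow_one]
  have hnt : Nontrivial (P5 : Subgroup X) := Finite.one_lt_card_iff_nontrivial.1 (by rw [hP]; norm_num)
  obtain ⟨y, hy⟩ := exists_ne (1 : (P5 : Subgroup X))
  have hy1 : (y : X) ≠ 1 := fun h => hy (Subtype.ext h)
  have hyo : orderOf (y : X) = 5 := by
    have h1 : orderOf (y : X) ∣ 5 := by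
      have h2 := orderOf_dvd_natCard y
      rw [hP] at h2
      rwa [Subgroup.orderOf_coe]
    rcases (Nat.dvd_prime (by norm_num : Nat.Prime 5)).1 h1 with h2 | h2
    · exact absurd (orderOf_eq_one_iff.1 h2) hy1
    · exact h2
  refine ⟨y, hyo, ?_, fun i hi => ?_⟩
  · rw [Cfsg.Agent.SmallSimple.BlockIndex.centralizer_eq hP y.2 hy1]
    exact (congrArg (fun H : Subgroup X => Nat.card H) h5.1).trans hP
  · have h6 : (y : X) ^ i ≠ 1 := fun h => hi (by rw [← hyo]; exact orderOf_dvd_of_pow_eq_one h)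
    obtain ⟨n, -, hn⟩ := Cfsg.Agent.SmallSimple.PrimeFusion.exists_conj hP h5.2 y.2 hy1 (pow_mem y.2 i) h6
    exact isConj_iff.2 ⟨n, hn⟩

theorem bad {D : Set ℕ} (hD : ∀ d ∈ D, d ∈ ({1, 21, 45, 55, 90, 99, 154, 210, 231, 280, 385, 560} : Set ℕ)) {d : ℕ}
    (h3 : 3 ∣ d) {i : ℕ} (h : d * 3 ^ i ∈ D ∨ 2 * (d * 3 ^ i) ∈ D) :
    d = 15 ∨ d = 21 ∨ d = 30 ∨ d = 33 ∨ d = 45 ∨ d = 90 ∨ d = 99 ∨ d = 105 ∨ d = 210 ∨ d = 231 := by
  have h1 : d * 3 ^ i ∈ ({1, 21, 45, 55, 90, 99, 154, 210, 231, 280, 385, 560} : Set ℕ) ∨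
      2 * (d * 3 ^ i) ∈ ({1, 21, 45, 55, 90, 99, 154, 210, 231, 280, 385, 560} : Set ℕ) := h.imp (hD _) (hD _)
  simp only [Set.mem_insert_iff, Set.mem_singleton_iff] at h1
  have hd : 0 < d := by
    rcases Nat.eq_zero_or_pos d with h0 | h0
    · subst h0
      simp at h1
    · exact h0
  have h2 : d * 3 ^ i ≤ 560 := by omega
  have h4 : 3 ^ i ≤ 560 := (Nat.le_mul_of_pos_left _ hd).trans h2
  have hi : i < 6 := by
    by_contra hcon
    have : 3 ^ 6 ≤ 3 ^ i := Nat.pow_le_pow_right (by norm_num) (by omega)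
    omega
  interval_cases i <;> omega

/-- **M22, `r = 3`** from the superset of the degrees -/
theorem m22_cover_three_of {X : Type v} [Group X] (hX : Cfsg.IsM22 X) {D : Set ℕ}
    (hD : ∀ d ∈ D, d ∈ ({1, 21, 45, 55, 90, 99, 154, 210, 231, 280, 385, 560} : Set ℕ))
    {N : Type u} [Group N] [Finite N] (V : Subgroup N) [V.Normal] (hV : Nat.card V = 3) (hc : V ≤ center N)
    (hperf : commutator N = ⊤) (he : Nonempty ((N ⧸ V) ≃* X)) :
    ∃ (χ : N → ℂ) (d : ℕ), IsIrrCharacter N χ ∧ (∃ v ∈ V, χ v ≠ χ 1) ∧ χ 1 = d ∧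
      ∀ i : ℕ, d * 3 ^ i ∉ D ∧ 2 * (d * 3 ^ i) ∉ D := by
  classical
  obtain ⟨e⟩ := he
  obtain ⟨y, hy, hyc, hyr⟩ := m22_five hX
  have h3 : Nat.Prime 3 := by norm_num
  have h5 : Nat.Prime 5 := by norm_num
  let π : N →* X := e.toMonoidHom.comp (QuotientGroup.mk' V)
  have hπ : Function.Surjective π := e.surjective.comp (QuotientGroup.mk'_surjective V)
  have hk : π.ker = V := by
    ext g
    rw [MonoidHom.mem_ker]
    change e (QuotientGroup.mk' V g) = 1 ↔ g ∈ V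
    rw [e.map_eq_one_iff]
    exact QuotientGroup.eq_one_iff g
  obtain ⟨x, -, hx, hxr, hxc⟩ := lift hπ h3 h5 (by norm_num) (by rw [hk]; exact hV) (by rw [hk]; exact hc) hy hyr
  rw [hyc] at hxc
  obtain ⟨c, hci⟩ := exists_inj h3 hV hc
  have := finite_irr (G := N)
  have := Fintype.ofFinite (IrrCharacter N)
  obtain ⟨w, hw, hs1, hs2⟩ := col hperf h3 h5 (by norm_num) hV hc hci hx hxr hxc
  by_contra hcon
  push Not at hcon
  have hbad : ∀ χ ∈ ov V c, ∃ i : ℕ, charDegree (χ : N → ℂ) * 3 ^ i ∈ D ∨ 2 * (charDegree (χ : N → ℂ) * 3 ^ i) ∈ D := by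
    intro χ hχ
    have h1 : ∃ v ∈ V, (χ : N → ℂ) v ≠ (χ : N → ℂ) 1 := by
      have hnt : Nontrivial V := Finite.one_lt_card_iff_nontrivial.1 (by rw [hV]; norm_num)
      obtain ⟨v, hv⟩ := exists_ne (1 : V)
      refine ⟨v, v.2, fun h => hv (hci ?_)⟩
      have h2 := mem_ov.1 hχ 1 v
      rw [one_mul, h] at h2
      have h4 : (χ : N → ℂ) 1 * 1 = (χ : N → ℂ) 1 * (c v : ℂ) := by rw [mul_one]; exact h2
      rw [map_one]
      exact Units.ext (mul_left_cancel₀ (isIrr_apply_one_ne_zero χ.2) h4).symm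
    obtain ⟨i, hi⟩ := hcon χ (charDegree (χ : N → ℂ)) χ.2 h1 (Blocks.Knorr.charDegree_eq χ.2)
    refine ⟨i, ?_⟩
    by_cases h2 : charDegree (χ : N → ℂ) * 3 ^ i ∈ D
    · exact Or.inl h2
    · exact Or.inr (hi h2)
  -- indicator functions
  let a : IrrCharacter N → ℤ := fun χ => if charDegree (χ : N → ℂ) = 21 then 1 else 0
  let b : IrrCharacter N → ℤ := fun χ => if charDegree (χ : N → ℂ) = 33 then 1 else 0
  let f : IrrCharacter N → ℤ := fun χ => if charDegree (χ : N → ℂ) = 99 then 1 else 0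
  let g : IrrCharacter N → ℤ := fun χ => if charDegree (χ : N → ℂ) = 231 then 1 else 0
  have hle : ∀ χ ∈ ov V c, w χ ^ 2 ≤ 5 := by
    intro χ hχ
    have h1 := Finset.single_le_sum (f := fun χ => w χ ^ 2) (fun χ _ => sq_nonneg (w χ)) hχ
    rw [hs1] at h1
    exact_mod_cast h1
  have hvals : ∀ χ ∈ ov V c, w χ ^ 2 = a χ + 4 * b χ + f χ + g χ ∧
      w χ * charDegree (χ : N → ℂ) = 21 * a χ - 66 * b χ - 99 * f χ + 231 * g χ := by
    intro χ hχ
    obtain ⟨h31, h51⟩ := hw χ hχ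
    obtain ⟨i, hi⟩ := hbad χ hχ
    have h6 := bad hD h31 hi
    have h7 := hle χ hχ
    have h8 : -2 ≤ w χ ∧ w χ ≤ 2 := by constructor <;> nlinarith
    simp only [a, b, f, g]
    generalize charDegree (χ : N → ℂ) = d at *
    generalize w χ = z at *
    obtain ⟨h9, h10⟩ := h8
    rcases h6 with rfl | rfl | rfl | rfl | rfl | rfl | rfl | rfl | rfl | rfl <;> interval_cases z <;>
      first
        | (exfalso; revert h51; norm_num; done)
        | norm_num
  have e1 := Finset.sum_congr rfl fun χ hχ => (hvals χ hχ).1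
  have e2 := Finset.sum_congr rfl fun χ hχ => (hvals χ hχ).2
  rw [hs1] at e1
  rw [hs2] at e2
  simp only [Finset.sum_add_distrib, Finset.sum_sub_distrib, ← Finset.mul_sum] at e1 e2
  have p1 : 0 ≤ ∑ χ ∈ ov V c, a χ := Finset.sum_nonneg fun χ _ => by simp only [a]; split_ifs <;> norm_num
  have p2 : 0 ≤ ∑ χ ∈ ov V c, b χ := Finset.sum_nonneg fun χ _ => by simp only [b]; split_ifs <;> norm_num
  have p3 : 0 ≤ ∑ χ ∈ ov V c, f χ := Finset.sum_nonneg fun χ _ => by simp only [f]; split_ifs <;> norm_num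
  have p4 : 0 ≤ ∑ χ ∈ ov V c, g χ := Finset.sum_nonneg fun χ _ => by simp only [g]; split_ifs <;> norm_num
  push_cast at e1
  omega

end Cfsg.Agent.H206.S8
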